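import Cfsg.Agent.H0.TC
set_option maxRecDepth 100000
namespace H0.TCO733
open H0
noncomputable def r0 : TC.WTr := (.node (.node (.node (.node (.node (.node (.leaf [0] 0 0 false) (.leaf [4, 6, 4] 12 0 true)) (.leaf [1, 6, 2] 20 1 false)) (.node (.leaf [0, 3, 1, 0, 1, 0] 14 5 true) (.leaf [5] 4 0 false))) (.node (.node (.leaf [1, 0, 1, 0, 3, 1] 14 2 true) (.leaf [5] 4 0 false)) (.node (.leaf [4, 2, 3, 5, 3, 0, 4] 24 5 true) (.leaf [3, 4, 3, 6, 3] 8 1 false)))) (.node (.node (.node (.node (.leaf [3, 0, 6] 19 2 false) (.leaf [6] 6 0 false)) (.leaf [1, 0, 1, 0, 1, 0] 14 0 true)) (.node (.leaf [1] 1 1 false) (.leaf [1, 3, 5, 1, 3] 21 1 true))) (.node (.node (.leaf [5, 2, 4, 3, 4, 2, 0] 23 2 false) (.leaf [2, 0, 1, 5, 3, 5, 1] 23 4 true)) (.node (.leaf [1] 1 1 false) (.leaf [6] 6 0 false))))) (.node (.node (.node (.node (.node (.leaf [5, 3, 5, 3, 0, 4, 0, 5] 25 4 false) (.leaf [0, 1, 3,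 2, 0, 4] 22 1 true)) (.leaf [4, 3, 6, 3, 5] 8 2 false)) (.node (.leaf [6, 2, 3] 20 2 false) (.leaf [4] 4 1 false))) (.node (.node (.leaf [2] 1 0 false) (.leaf [3, 1, 5, 1, 5, 0, 3] 24 6 false)) (.node (.leaf [1] 1 1 false) (.leaf [4] 4 1 false)))) (.node (.node (.node (.leaf [2, 0, 2, 2, 5, 1] 15 1 false) (.leaf [5, 1, 3, 5, 1] 21 0 true)) (.node (.leaf [3, 1, 6] 20 0 false) (.leaf [1, 5, 0, 3, 4, 3, 1] 24 1 false))) (.node (.node (.leaf [0, 2, 0, 2, 2, 5] 15 0 false) (.leaf [3, 6, 3, 5, 3] 8 3 false)) (.node (.leaf [3] 3 0 false) (.leaf [2, 3, 1] 20 3 false))))))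
noncomputable def r1 : TC.WTr := (.node (.node (.node (.node (.node (.node (.leaf [5, 0, 5, 3, 5, 3, 0, 4] 25 2 false) (.leaf [3, 5, 3, 4, 3] 8 5 false)) (.leaf [2, 0, 6, 5, 0, 1] 22 2 false)) (.node (.leaf [1, 0, 1, 0, 2, 4] 15 1 true) (.leaf [5] 4 0 false))) (.node (.node (.leaf [0] 0 0 false) (.leaf [1, 1, 0, 1, 0, 2] 15 0 true)) (.node (.leaf [2, 2, 2, 2, 2] 13 0 true) (.leaf [4] 4 1 false)))) (.node (.node (.node (.node (.leaf [4, 0, 5, 0, 5, 3, 5, 3] 25 0 false) (.leaf [6] 6 0 false)) (.leaf [4, 3, 4, 3, 4, 3, 4] 9 0 false)) (.node (.leaf [4, 3, 2, 4, 3] 21 0 false) (.leaf [0, 1, 3, 2, 0, 6] 22 6 false))) (.node (.node (.leaf [0, 1, 0, 3, 1, 0] 14 3 true) (.leaf [3, 2, 4, 3, 2] 21 1 false)) (.node (.leaf [1] 1 1 false) (.leaf [0, 3, 0] 19 1 false))))) (.node (.node (.node (.node (.node (.leaf [4, 0, 5, 0, 3, 4, 3, 4] 25 4 true) (.leaf [6] 6 0 false)) (.leaf [2, 4, 3, 2, 4]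 21 2 false)) (.node (.leaf [1, 1, 1, 1, 1] 13 0 false) (.leaf [5, 5] 7 0 true))) (.node (.node (.leaf [5, 0, 3, 4, 3, 1, 5] 24 2 false) (.leaf [4, 4] 7 0 false)) (.node (.leaf [1] 1 1 false) (.leaf [4] 4 1 false)))) (.node (.node (.node (.leaf [6, 0, 3] 19 0 false) (.leaf [3] 3 0 false)) (.node (.leaf [0, 2, 0, 2, 3, 0] 14 1 false) (.leaf [3, 5, 1, 4, 2, 0, 1] 23 0 true))) (.node (.node (.leaf [5, 3, 5, 1, 4, 2, 0] 23 7 true) (.leaf [5] 4 0 false)) (.node (.leaf [0, 6, 0] 19 3 false) (.leaf [5, 6, 5] 12 1 false))))))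
noncomputable def tS : Tr := (.leaf (nat_lit 0xffd67615a37057f77870ffe1a51a37131fd7cdb8ffd4695a5411d7a92635ffd659cd664744521974ffe0d838cb2895510e55ffc902b8cc1088c6407fffd903add22b44268d5cffd9c104c25093329c95ffc8d2acc93f88065841ffc8b22c40231d22b9deffcaa100aa55e1a64996ffc8a4f95c45c406857fffc892f0bd224ca21440ffc217ddf91d9b96e17bffe352082151a7335cbfffd6d3a09b48cb00853affc67214a35eca719421ffc65194203357b181a0ffc84080841d485604e1ffd7f174a5081bc368f9ffcda29cda4f8201d0dcffcf93e4a7188fa2ac20ffc601801f18473580aeffc7f07c7f1c8841c460ffd583087017cc307c6fffc5e1b86d1781f1b06bffc4c12c820fc4a00049ffc3e120471180011444ffc3d10c420f44110000ffc0000000000210801f))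
noncomputable def tJ : Tr := (.leaf (nat_lit 0x8c0118e03014c688107180a034028388000010d4a020300a22bc03014c0805071000020e003140460ce43800008c061998400c2d200002800d01400008022806d000000800100da603005000a4200016000010400004006140008c000098400c2d008202800d0000000c01101a0200402106068060000020800d2006159000014005800000420080020ac02008001ac00080000080b008020000b0000008001001600294a50000))
noncomputable def tQ : Tr := (.leaf (nat_lit 0x0))
noncomputable def tR : TC.WTr := (.node r0 r1)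
def hl : List ℕ := [3, 4, 5, 5, 4, 6]
def B : List (List ℕ) := [[0, 0], [1, 2], [2, 1], [3, 3], [4, 5], [5, 4], [6, 6], [4, 4, 4], [3, 5, 3, 4, 3, 6], [3, 4, 3, 4, 3, 4, 3, 4], [3, 4, 3, 5, 3, 4, 3, 5, 3, 4, 3, 5], [3, 5, 3, 5, 3, 5, 3, 5], [5, 6, 5, 6], [1, 1, 1, 1, 1, 1], [0, 2, 0, 2, 0, 2, 3], [1, 0, 2, 0, 2, 2, 5], [0, 1, 0, 1, 0, 1, 0, 1, 0, 1, 0, 1], [0, 1, 0, 2, 0, 1, 0, 2, 0, 1, 0, 2, 0, 1, 0, 2], [0, 2, 0, 2, 0, 2, 0, 2, 0, 2, 0, 2], [0, 6, 0, 3], [2, 3, 1, 6], [2, 4, 3, 2, 4, 3], [0, 1, 3, 2, 0, 6, 5], [2, 0, 1, 5, 2, 4, 3, 4], [1, 5, 1, 5, 0, 3, 4, 3], [0, 4, 0, 5, 0, 5, 3, 5, 3]]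
def subs : List (List ℕ) := [[3], [4], [5], [6]]
def ex : List (List ℕ) := []
def inv (x : ℕ) : ℕ := [0, 2, 1, 3, 5, 4, 6].getD x 0
noncomputable def rS : ℕ → ℕ := rowOf tS (nat_lit 8) (nat_lit 255) (nat_lit 80) (nat_lit 1208925819614629174706175)
noncomputable def rJ : ℕ → ℕ := rowOf tJ (nat_lit 8) (nat_lit 255) (nat_lit 45) (nat_lit 35184372088831)
noncomputable def C : TC.Cfg where
  S := look rS (nat_lit 10) (nat_lit 1023)
  J := look rJ (nat_lit 5) (nat_lit 31)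
  Q := lookQ tQ (nat_lit 8) (nat_lit 1) (nat_lit 1)
  R := tR.get
  hl := fun x => hl.contains x
  n := (nat_lit 30)
  M := (nat_lit 30)
  top := (nat_lit 630)
  nl := (nat_lit 7)
  need := (nat_lit 7)
  nr := (nat_lit 10)
theorem k0 : TC.chkRange C 0 1 = true := by decide +kernel
theorem rows0 : ∀ c < (0 + 1) * 64, c < C.M → TC.chkRow C c = true :=
  TC.rows_step (TC.rows_zero C) k0
theorem main {G : Type*} [Group G] (g : ℕ → G) (hB : ∀ r ∈ B, ev g r = 1) (H : Subgroup G)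
    (hH : ∀ w ∈ subs, ev g w ∈ H) :
    H.relIndex (Subgroup.closure (g '' {x | x < 7})) ≠ 0 ∧
      H.relIndex (Subgroup.closure (g '' {x | x < 7})) ≤ 30 :=
  TC.index_le C B subs ex inv hl tR.hint rfl (by decide +kernel) (by decide +kernel)
    (TC.rows_done rows0 (by decide +kernel)) g hB H hH
end H0.TCO733
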